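import Groth.Agent.NeronLib.ProjLine
import Groth.Agent.Coherent.ProjSpaceBase
import Groth.Prelude.Def_P1
import Mathlib.AlgebraicGeometry.Geometrically.Connected

/-! The projective line over any base: charts, smoothness, openness and connected fibres. -/

universe u

set_option autoImplicit false

open AlgebraicGeometry CategoryTheory Limits TopologicalSpace MvPolynomial HomogeneousLocalization

namespace Groth.Agent.P1Lib24

variable (K : Type u) [CommRing K]

/-- `K[X₀,X₁]/(Xᵢ - 1) ≅ K[t]`. -/
noncomputable def dehomAlgEquiv (i : Fin (1 + 1)) :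
    (MvPolynomial (Fin (1 + 1)) K ⧸ Ideal.span {(X i : MvPolynomial (Fin (1 + 1)) K) - 1}) ≃ₐ[K]
      MvPolynomial PUnit.{u + 1} K :=
  AlgEquiv.ofAlgHom
    (Ideal.Quotient.liftₐ _ (aeval fun j => if j = i then 1 else X PUnit.unit) (by
      intro a ha
      obtain ⟨c, rfl⟩ := Ideal.mem_span_singleton.mp ha
      simp))
    (aeval fun _ => Ideal.Quotient.mk _ (X i.rev))
    (by
      refine MvPolynomial.algHom_ext fun j => ?_
      have h : i.rev ≠ i := by revert i; decide
      simp [h])
    (by
      refine Ideal.Quotient.algHom_ext _ (MvPolynomial.algHom_ext fun j => ?_)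
      by_cases h : j = i
      · subst h
        simp only [AlgHom.comp_apply, AlgHom.id_apply, Ideal.Quotient.mkₐ_eq_mk, Ideal.Quotient.liftₐ_apply,
          Ideal.Quotient.lift_mk, aeval_X, RingHom.coe_coe, if_pos, map_one]
        exact (Ideal.Quotient.eq.mpr (Ideal.mem_span_singleton_self _)).symm.trans rfl
      · have h' : j = i.rev := by revert i j; decide
        subst h'
        simp [h])

/-- The chart `K[t] ≅ K[X₀,X₁]_(Xᵢ)`. -/
noncomputable def chartEquiv (i : Fin (1 + 1)) :
    Away (CohB1.polyGrading 1 K) (X i : MvPolynomial (Fin (1 + 1)) K) ≃+* MvPolynomial PUnit.{u + 1} K :=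
  (ProjLib.awayEquivQuotient (ProjLib.X_mem_polyGrading 1 K i)).trans (dehomAlgEquiv K i).toRingEquiv

theorem chartEquiv_toAway (i : Fin (1 + 1)) (r : K) :
    chartEquiv K i (ProjLib.toAway 1 K (X i) r) = C r := by
  show dehomAlgEquiv K i (ProjLib.evalOne (algebraMap _ _ (ProjLib.toAway 1 K (X i) r))) = _
  rw [HomogeneousLocalization.algebraMap_apply, ProjLib.val_toAway]
  have : ProjLib.evalOne (f := (X i : MvPolynomial (Fin (1 + 1)) K)) (algebraMap _ (Localization.Away (X i : MvPolynomial (Fin (1 + 1)) K)) (C r)) =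
      Ideal.Quotient.mk _ (C r) := IsLocalization.Away.lift_eq _ _ _
  rw [this]
  exact (dehomAlgEquiv K i).commutes r

/-- The structure map of the affine line. -/
noncomputable abbrev lineMap : Spec (CommRingCat.of (MvPolynomial PUnit.{u + 1} K)) ⟶ Spec (CommRingCat.of K) :=
  Spec.map (CommRingCat.ofHom C)

/-- The charts of the projective line. -/
noncomputable def chart (i : Fin (1 + 1)) :
    Spec (CommRingCat.of (MvPolynomial PUnit.{u + 1} K)) ⟶ CohB1.ProjSpace 1 K :=
  Spec.map (CommRingCat.ofHom (chartEquiv K i).toRingHom) ≫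
    Proj.awayι (CohB1.polyGrading 1 K) (X i) (ProjLib.X_mem_polyGrading 1 K i) one_pos

set_option backward.isDefEq.respectTransparency.types false in
instance (i : Fin (1 + 1)) : IsOpenImmersion (chart K i) := by
  have : IsIso (CommRingCat.ofHom (chartEquiv K i).toRingHom) :=
    (ConcreteCategory.isIso_iff_bijective _).mpr (chartEquiv K i).bijective
  exact @IsOpenImmersion.comp _ _ _ (Spec.map (CommRingCat.ofHom (chartEquiv K i).toRingHom))
    (Proj.awayι (CohB1.polyGrading 1 K) (X i) (ProjLib.X_mem_polyGrading 1 K i) one_pos) inferInstance inferInstance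

theorem chart_toSpec (i : Fin (1 + 1)) : chart K i ≫ CohB1.ProjSpace.toSpec 1 K = lineMap K := by
  refine (Category.assoc _ _ _).trans ?_
  refine (congrArg (_ ≫ ·) (ProjLib.awayι_toSpec 1 K (ProjLib.X_mem_polyGrading 1 K i) one_pos)).trans ?_
  rw [← Spec.map_comp]
  congr 1
  exact CommRingCat.hom_ext (RingHom.ext fun r => chartEquiv_toAway K i r)

theorem exists_chart (y : CohB1.ProjSpace 1 K) : ∃ i, y ∈ Set.range (chart K i) := by
  have h : y ∈ ⨆ i, Proj.basicOpen (CohB1.polyGrading 1 K) (X i) := (ProjLib.iSup_basicOpen_X 1 K).symm ▸ trivial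
  obtain ⟨i, hi⟩ := Opens.mem_iSup.1 h
  rw [← Proj.opensRange_awayι (CohB1.polyGrading 1 K) (X i) (ProjLib.X_mem_polyGrading 1 K i) one_pos] at hi
  obtain ⟨a, rfl⟩ := hi
  have : IsIso (CommRingCat.ofHom (chartEquiv K i).toRingHom) :=
    (ConcreteCategory.isIso_iff_bijective _).mpr (chartEquiv K i).bijective
  exact ⟨i, inv (Spec.map (CommRingCat.ofHom (chartEquiv K i).toRingHom)) a, by
    rw [chart, ← Scheme.Hom.comp_apply, IsIso.inv_hom_id_assoc]; rfl⟩

/-- The cover of the projective line by two affine lines. -/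
noncomputable def chartCover : (CohB1.ProjSpace 1 K).OpenCover :=
  Scheme.Cover.mkOfCovers (Fin (1 + 1)) (fun _ => Spec (CommRingCat.of (MvPolynomial PUnit.{u + 1} K))) (chart K)
    (fun y => by obtain ⟨i, a, ha⟩ := exists_chart K y; exact ⟨i, a, ha⟩) (fun _ => inferInstance)

instance smooth_specC (n : Type u) [Finite n] :
    Smooth (Spec.map (CommRingCat.ofHom (C : K →+* MvPolynomial n K))) := by
  rw [HasRingHomProperty.Spec_iff (P := @Smooth)]
  show (algebraMap K (MvPolynomial n K)).Smooth
  rw [RingHom.smooth_algebraMap]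
  exact ⟨inferInstance, inferInstance⟩

instance smooth_projLine : Smooth (CohB1.ProjSpace.toSpec 1 K) :=
  IsZariskiLocalAtSource.of_openCover (P := @Smooth) (chartCover K) fun i => by
    show Smooth (chart K i ≫ _)
    rw [chart_toSpec]
    infer_instance

theorem geometricallyConnected_toSpec (R : Type u) [CommRing R] :
    GeometricallyConnected (CohB1.ProjSpace.toSpec 1 R) := by
  rw [geometricallyConnected_iff, geometrically]
  intro L _ t Y a b hP
  letI : Algebra R L := (Spec.preimage t).hom.toAlgebra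
  have ht : Spec.map (CommRingCat.ofHom (algebraMap R L)) = t := Spec.map_preimage t
  have h' := Coherent.isPullback_projSpace 1 R L
  rw [ht] at h'
  haveI : IrreducibleSpace (CohB1.ProjSpace 1 L) :=
    GeometricallyIrreducible.irreducibleSpace_of_subsingleton (CohB1.ProjSpace.toSpec 1 L)
  haveI : ConnectedSpace (CohB1.ProjSpace 1 L) := inferInstance
  haveI : ConnectedSpace (Proj (CohB1.polyGrading 1 L)) := this
  exact (h'.isoIsPullback _ _ hP).hom.surjective.connectedSpace (h'.isoIsPullback _ _ hP).hom.continuous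

variable (S : Scheme.{u})

theorem isOpenMap_toBase : IsOpenMap (CohB1.ProjSpaceOver.toBase 1 S) := by
  haveI : Smooth (CohB1.ProjSpaceOver.toBase 1 S) := by
    haveI := smooth_projLine (ULift.{u} ℤ)
    unfold CohB1.ProjSpaceOver.toBase
    exact MorphismProperty.pullback_snd _ _ this
  exact (CohB1.ProjSpaceOver.toBase 1 S).isOpenMap

instance geometricallyConnected_toBase : GeometricallyConnected (CohB1.ProjSpaceOver.toBase 1 S) := by
  unfold CohB1.ProjSpaceOver.toBase
  exact MorphismProperty.pullback_snd _ _ (geometricallyConnected_toSpec (ULift.{u} ℤ))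

theorem sect_toBase (i : Fin (1 + 1)) : P1.sect S i ≫ CohB1.ProjSpaceOver.toBase 1 S = 𝟙 S :=
  pullback.lift_snd _ _ _

/-- A clopen subset of `P^1_S` avoiding a section is empty. -/
theorem eq_empty_of_isClopen (D : Set (CohB1.ProjSpaceOver 1 S)) (hD : IsClopen D)
    (h : ∀ s, P1.sect S 0 s ∉ D) : D = ∅ := by
  rw [Set.eq_empty_iff_forall_notMem]
  intro p hp
  have hc := (CohB1.ProjSpaceOver.toBase 1 S).isConnected_preimage_singleton (CohB1.ProjSpaceOver.toBase 1 S p)
  refine h (CohB1.ProjSpaceOver.toBase 1 S p) (hc.isPreconnected.subset_isClopen hD ⟨p, rfl, hp⟩ ?_)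
  show CohB1.ProjSpaceOver.toBase 1 S (P1.sect S 0 _) = _
  rw [← Scheme.Hom.comp_apply, sect_toBase]
  rfl

theorem preconnectedSpace [PreconnectedSpace S] : PreconnectedSpace (CohB1.ProjSpaceOver 1 S) := by
  rcases isEmpty_or_nonempty S with hS | hS
  · haveI : IsEmpty (CohB1.ProjSpaceOver 1 S) := ⟨fun x ↦ hS.false (CohB1.ProjSpaceOver.toBase 1 S x)⟩
    infer_instance
  · haveI : ConnectedSpace S := { toNonempty := hS }
    haveI := GeometricallyConnected.connectedSpace (CohB1.ProjSpaceOver.toBase 1 S) (isOpenMap_toBase S)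
    infer_instance

variable {S} {X : Scheme.{u}} (g : X ⟶ CohB1.ProjSpaceOver 1 S) [IsFinite g] [Flat g] [LocallyOfFinitePresentation g]

theorem isClopen_image {W : Set X} (hW : IsClopen W) : IsClopen (g '' W) :=
  ⟨g.isClosedMap _ hW.1, g.isOpenMap _ hW.2⟩

theorem eq_univ_of_isClopen (W : Set X) (hW : IsClopen W)
    (h0 : ∀ x : X, g x ∈ Set.range (P1.sect S 0) → x ∈ W) : W = Set.univ := by
  rw [← Set.compl_empty_iff]
  have hD := eq_empty_of_isClopen S (g '' Wᶜ) (isClopen_image g hW.compl) (by
    rintro s ⟨x, hx, hgx⟩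
    exact hx (h0 x ⟨s, hgx.symm⟩))
  exact Set.image_eq_empty.mp hD

end Groth.Agent.P1Lib24
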